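import Groth.Agent.Hoch.K915.Basic
import Groth.Prelude.Def_Hoch
import Mathlib.RingTheory.Bialgebra.TensorProduct
import Mathlib.RingTheory.Coalgebra.TensorProduct

/-!
# From a bialgebra `O` over `k` to the bialgebra `R ⊗[k] O` over `R`

`k → R` commutative rings, `O` a bialgebra over `k`, `N` an `R`-module with an `R`-linear coaction `N → N ⊗[k] O`.
* `RLin`: the coaction is `R`-linear.
* `toR`: the comodule structure of `N` over the `R`-bialgebra `R ⊗[k] O`.
* `rmod n`: the `R`-module structure (left factor) on the cochains `Hoch.cochain k O N n`, `d_smul`: `Hoch.d` is `R`-linear.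
* `Phi n : Hoch.cochain k O N n ≃ₗ[R] Hoch.cochain R (R ⊗[k] O) N n`, commuting with the differentials (`Phi_d`).
-/

set_option autoImplicit false
set_option linter.style.haveILetI false
universe u v

open TensorProduct

noncomputable section

namespace Groth.Agent.ResProp.EF.K805

variable {k : Type u} [CommRing k] {O : Type v} [CommRing O] [Bialgebra k O] {R : Type v} [CommRing R] [Algebra k R]

section Up

variable {X : Type v} [AddCommGroup X] [Module k X] [Module R X] [IsScalarTower k R X]
variable {Y : Type v} [AddCommGroup Y] [Module R Y]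

variable (k O) in
/-- `x ⊗ a ↦ f x ⊗ (1 ⊗ a)`. -/
def up (f : X →ₗ[R] Y) : X ⊗[k] O →ₗ[R] Y ⊗[R] (R ⊗[k] O) :=
  f.rTensor (R ⊗[k] O) ∘ₗ (AlgebraTensorModule.cancelBaseChange k R R X O).symm.toLinearMap

@[simp] theorem up_tmul (f : X →ₗ[R] Y) (x : X) (a : O) :
    up k O f (x ⊗ₜ[k] a) = f x ⊗ₜ[R] ((1 : R) ⊗ₜ[k] a) := by
  rw [up, LinearMap.comp_apply, LinearEquiv.coe_coe, AlgebraTensorModule.cancelBaseChange_symm_tmul,
    LinearMap.rTensor_tmul]

variable (k O) in
/-- `up` of an isomorphism is an isomorphism. -/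
def upEquiv (e : X ≃ₗ[R] Y) : X ⊗[k] O ≃ₗ[R] Y ⊗[R] (R ⊗[k] O) :=
  (AlgebraTensorModule.cancelBaseChange k R R X O).symm ≪≫ₗ e.rTensor (R ⊗[k] O)

theorem upEquiv_apply (e : X ≃ₗ[R] Y) (z : X ⊗[k] O) : upEquiv k O e z = up k O (e : X →ₗ[R] Y) z := rfl

@[simp] theorem upEquiv_tmul (e : X ≃ₗ[R] Y) (x : X) (a : O) :
    upEquiv k O e (x ⊗ₜ[k] a) = e x ⊗ₜ[R] ((1 : R) ⊗ₜ[k] a) := by
  rw [upEquiv_apply, up_tmul]; rfl

/-- The comultiplication of `R ⊗ O` on `1 ⊗ a`, through `up`. -/
theorem comul_one_tmul (a : O) : Coalgebra.comul (R := R) (A := R ⊗[k] O) ((1 : R) ⊗ₜ[k] a) =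
    AlgebraTensorModule.distribBaseChange k R O O ((1 : R) ⊗ₜ[k] Coalgebra.comul (R := k) a) := by
  rw [TensorProduct.comul_tmul]
  generalize Coalgebra.comul (R := k) a = w
  induction w using TensorProduct.induction_on with
  | zero => simp
  | add x y hx hy => simp only [TensorProduct.tmul_add, map_add, hx, hy]
  | tmul x y => rfl

theorem up_up_assoc (f : X →ₗ[R] Y) (x : X) (w : O ⊗[k] O) :
    up k O (up k O f) ((TensorProduct.assoc k X O O).symm (x ⊗ₜ[k] w)) =
      (TensorProduct.assoc R Y (R ⊗[k] O) (R ⊗[k] O)).symm (f x ⊗ₜ[R]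
        AlgebraTensorModule.distribBaseChange k R O O ((1 : R) ⊗ₜ[k] w)) := by
  induction w using TensorProduct.induction_on with
  | zero => simp
  | add x y hx hy => simp only [TensorProduct.tmul_add, map_add, hx, hy]
  | tmul a b =>
    rw [TensorProduct.assoc_symm_tmul, up_tmul, up_tmul, AlgebraTensorModule.distribBaseChange_tmul,
      TensorProduct.assoc_symm_tmul]

theorem up_up_tail (f : X →ₗ[R] Y) (z : X ⊗[k] O) :
    up k O (up k O f) (Hoch.tail k O X z) = Hoch.tail R (R ⊗[k] O) Y (up k O f z) := by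
  induction z using TensorProduct.induction_on with
  | zero => simp
  | add x y hx hy => simp only [map_add, hx, hy]
  | tmul x a =>
    rw [Hoch.tail_tmul, up_up_assoc, up_tmul, Hoch.tail_tmul, comul_one_tmul,
      TensorProduct.tmul_sub, TensorProduct.tmul_sub, map_sub, map_sub,
      AlgebraTensorModule.distribBaseChange_tmul, AlgebraTensorModule.distribBaseChange_tmul]
    rfl

theorem up_up_rTensor (f : X →ₗ[R] Y) (D : X →ₗ[k] X ⊗[k] O) (E : Y →ₗ[R] Y ⊗[R] (R ⊗[k] O))
    (h : ∀ x, up k O f (D x) = E (f x)) (z : X ⊗[k] O) :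
    up k O (up k O f) (D.rTensor O z) = E.rTensor (R ⊗[k] O) (up k O f z) := by
  induction z using TensorProduct.induction_on with
  | zero => simp
  | add x y hx hy => simp only [map_add, hx, hy]
  | tmul x a => rw [LinearMap.rTensor_tmul, up_tmul, up_tmul, LinearMap.rTensor_tmul, h]

/-- The step: compatibility with the differentials passes to the next degree. -/
theorem up_step (f : X →ₗ[R] Y) (D : X →ₗ[k] X ⊗[k] O) (E : Y →ₗ[R] Y ⊗[R] (R ⊗[k] O)) (c : k) (c' : R)
    (hc : c' = algebraMap k R c) (h : ∀ x, up k O f (D x) = E (f x)) (z : X ⊗[k] O) :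
    up k O (up k O f) ((D.rTensor O + c • Hoch.tail k O X) z) =
      (E.rTensor (R ⊗[k] O) + c' • Hoch.tail R (R ⊗[k] O) Y) (up k O f z) := by
  rw [LinearMap.add_apply, map_add, LinearMap.add_apply, up_up_rTensor f D E h, LinearMap.smul_apply,
    LinearMap.smul_apply, ← up_up_tail, ← algebraMap_smul R c (Hoch.tail k O X z), map_smul, hc]

end Up

section Comod

variable {N : Type v} [AddCommGroup N] [Module k N] [Module R N] [IsScalarTower k R N]

variable (k O R) in
/-- The coaction is `R`-linear. -/
def RLin (c : HopfRep.Comod k O N) : Prop :=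
  ∀ (r : R) (n : N), c.coact (r • n) = r • c.coact n

/-- The coaction over `R`. -/
def coactR (c : HopfRep.Comod k O N) (hc : RLin k O R c) : N →ₗ[R] N ⊗[R] (R ⊗[k] O) where
  toFun n := up k O (LinearMap.id : N →ₗ[R] N) (c.coact n)
  map_add' x y := by simp
  map_smul' r x := by rw [hc, map_smul]; rfl

theorem coactR_apply (c : HopfRep.Comod k O N) (hc : RLin k O R c) (n : N) :
    coactR c hc n = up k O (LinearMap.id : N →ₗ[R] N) (c.coact n) := rfl

/-- The comodule structure over `R ⊗[k] O`. -/
@[reducible] def toR (c : HopfRep.Comod k O N) (hc : RLin k O R c) : HopfRep.Comod R (R ⊗[k] O) N where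
  coact := coactR c hc
  coassoc := by
    apply LinearMap.ext
    intro n
    have h1 : (coactR c hc).rTensor (R ⊗[k] O) (up k O (LinearMap.id : N →ₗ[R] N) (c.coact n)) =
        up k O (up k O (LinearMap.id : N →ₗ[R] N)) (c.coact.rTensor O (c.coact n)) :=
      (up_up_rTensor (LinearMap.id : N →ₗ[R] N) c.coact (coactR c hc) (fun _ => rfl) _).symm
    have h2 : ∀ z : N ⊗[k] O, (Coalgebra.comul (R := R) (A := R ⊗[k] O)).lTensor N
        (up k O (LinearMap.id : N →ₗ[R] N) z) = TensorProduct.assoc R N (R ⊗[k] O) (R ⊗[k] O)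
          (up k O (up k O (LinearMap.id : N →ₗ[R] N))
            ((TensorProduct.assoc k N O O).symm ((Coalgebra.comul (R := k) (A := O)).lTensor N z))) := by
      intro z
      induction z using TensorProduct.induction_on with
      | zero => simp
      | add x y hx hy => simp only [map_add, hx, hy]
      | tmul x a =>
        rw [LinearMap.lTensor_tmul, up_up_assoc, LinearEquiv.apply_symm_apply, up_tmul, LinearMap.lTensor_tmul,
          comul_one_tmul]
    have h3 := LinearMap.congr_fun c.coassoc n
    simp only [LinearMap.comp_apply, LinearEquiv.coe_coe] at h3 ⊢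
    rw [coactR_apply, h1, h2, ← h3, LinearEquiv.symm_apply_apply]
  counit_comp := by
    apply LinearMap.ext
    intro n
    have h2 : ∀ z : N ⊗[k] O, (Coalgebra.counit (R := R) (A := R ⊗[k] O)).lTensor N
        (up k O (LinearMap.id : N →ₗ[R] N) z) = (TensorProduct.rid R N).symm (TensorProduct.rid k N
          ((Coalgebra.counit (R := k) (A := O)).lTensor N z)) := by
      intro z
      induction z using TensorProduct.induction_on with
      | zero => simp
      | add x y hx hy => simp only [map_add, hx, hy]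
      | tmul x a =>
        rw [up_tmul, LinearMap.lTensor_tmul, LinearMap.lTensor_tmul, TensorProduct.rid_tmul,
          TensorProduct.rid_symm_apply, TensorProduct.counit_tmul]
        rw [LinearMap.id_apply, ← algebraMap_smul R, TensorProduct.smul_tmul]
        simp [Algebra.smul_def]
    have h3 := LinearMap.congr_fun c.counit_comp n
    simp only [LinearMap.comp_apply, LinearMap.flip_apply, TensorProduct.mk_apply] at h3 ⊢
    rw [coactR_apply, h2, h3]
    simp

end Comod

section Cochains

variable (k O R)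
variable (N : Type v) [AddCommGroup N] [Module k N] [Module R N] [IsScalarTower k R N]

/-- The `R`-module structure on cochains, bundled with the tower. -/
structure RMod (X : Type v) [AddCommGroup X] [Module k X] where
  mod : Module R X
  tower : IsScalarTower k R X

/-- The `R`-module structure on `Hoch.cochain k O N n` through the left factor. -/
@[reducible] def rc : (n : ℕ) → RMod k R (Hoch.cochain k O N n : Type v)
  | 0 => ⟨inferInstanceAs (Module R N), inferInstanceAs (IsScalarTower k R N)⟩
  | n + 1 =>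
    letI := (rc n).mod
    haveI := (rc n).tower
    ⟨inferInstanceAs (Module R ((Hoch.cochain k O N n : Type v) ⊗[k] O)),
      inferInstanceAs (IsScalarTower k R ((Hoch.cochain k O N n : Type v) ⊗[k] O))⟩

/-- The `R`-linear isomorphism of cochains. -/
def Phi : (n : ℕ) → letI := (rc k O R N n).mod
    (Hoch.cochain k O N n : Type v) ≃ₗ[R] (Hoch.cochain R (R ⊗[k] O) N n : Type v)
  | 0 => LinearEquiv.refl R N
  | n + 1 =>
    letI := (rc k O R N n).mod
    haveI := (rc k O R N n).tower
    upEquiv k O (Phi n)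

theorem Phi_zero (x : N) : Phi k O R N 0 x = x := rfl

theorem Phi_succ_tmul (n : ℕ) (x : (Hoch.cochain k O N n : Type v)) (a : O) :
    Phi k O R N (n + 1) (x ⊗ₜ[k] a) = Phi k O R N n x ⊗ₜ[R] ((1 : R) ⊗ₜ[k] a) := by
  letI := (rc k O R N n).mod
  haveI := (rc k O R N n).tower
  exact upEquiv_tmul (Phi k O R N n) x a

variable {k O R N}

/-- `Phi` commutes with the differentials. -/
theorem Phi_d (c : HopfRep.Comod k O N) (hc : RLin k O R c) (n : ℕ) (z : (Hoch.cochain k O N n : Type v)) :
    letI := c
    letI := toR c hc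
    Phi k O R N (n + 1) (Hoch.d k O N n z) = Hoch.d R (R ⊗[k] O) N n (Phi k O R N n z) := by
  letI := c
  letI := toR c hc
  induction n with
  | zero =>
    change up k O (LinearMap.id : N →ₗ[R] N) ((HopfRep.Comod.coact (k := k) (A := O) z : N ⊗[k] O) - z ⊗ₜ (1 : O)) =
      (HopfRep.Comod.coact (k := R) (A := R ⊗[k] O) z : N ⊗[R] (R ⊗[k] O)) - z ⊗ₜ (1 : R ⊗[k] O)
    rw [map_sub, up_tmul]
    rfl
  | succ n ih =>
    letI := (rc k O R N n).mod
    haveI := (rc k O R N n).tower
    rw [Hoch.d_succ, Hoch.d_succ]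
    exact up_step (Phi k O R N n : (Hoch.cochain k O N n : Type v) →ₗ[R] (Hoch.cochain R (R ⊗[k] O) N n : Type v))
      (Hoch.d k O N n) (Hoch.d R (R ⊗[k] O) N n) ((-1 : k) ^ (n + 1)) ((-1 : R) ^ (n + 1)) (by simp) ih z

/-- The differential over `k` is `R`-linear. -/
theorem d_smul (c : HopfRep.Comod k O N) (hc : RLin k O R c) (n : ℕ) (r : R)
    (z : (Hoch.cochain k O N n : Type v)) :
    letI := c
    letI := (rc k O R N n).mod
    letI := (rc k O R N (n + 1)).mod
    Hoch.d k O N n (r • z) = r • Hoch.d k O N n z := by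
  letI := c
  letI := toR c hc
  letI := (rc k O R N n).mod
  letI := (rc k O R N (n + 1)).mod
  apply (Phi k O R N (n + 1)).injective
  rw [Phi_d c hc, map_smul, map_smul, map_smul, Phi_d c hc]

end Cochains

end Groth.Agent.ResProp.EF.K805
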