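import Groth.Agent.ResProp.EF.K83.Nodes
import Mathlib.RingTheory.Flat.Basic

/-!
# Localisation of Hochschild cochains (G6a, node T3a)

`f : N → N'` is a localisation with respect to an operator `sg` of `N` (`LocOp f sg sg'`).  Then so is the map of
cochains in every degree (`locOp_map`), and a cocycle of `N` which becomes a coboundary in `N'` is killed by a power of
`sg`, in a family of comodule structures `co n` for which `sg` is colinear from `co n` to `co (n + 1)`
(`exists_pow_mem_coboundaries`).  `T3a : StmtT3a`.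
-/

set_option autoImplicit false
universe u v

open TensorProduct

noncomputable section

namespace Groth.Agent.ResProp.EF.K805

/-- `f : X → X'` is the localisation of `X` at the operator `sg`. -/
structure LocOp {R : Type u} [CommRing R] {X X' : Type v} [AddCommGroup X] [Module R X] [AddCommGroup X']
    [Module R X'] (f : X →ₗ[R] X') (sg : X →ₗ[R] X) (sg' : X' →ₗ[R] X') : Prop where
  comm : f ∘ₗ sg = sg' ∘ₗ f
  inj : Function.Injective sg'
  surj : ∀ y : X', ∃ (k : ℕ) (x : X), (sg' ^ k) y = f x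
  ker : ∀ x : X, f x = 0 → ∃ k : ℕ, (sg ^ k) x = 0

namespace LocOp

variable {R : Type u} [CommRing R] {X X' : Type v} [AddCommGroup X] [Module R X] [AddCommGroup X']
    [Module R X'] {f : X →ₗ[R] X'} {sg : X →ₗ[R] X} {sg' : X' →ₗ[R] X'}

theorem comm_pow (h : LocOp f sg sg') (k : ℕ) (x : X) : f ((sg ^ k) x) = (sg' ^ k) (f x) := by
  induction k with
  | zero => simp
  | succ k ih =>
    rw [pow_succ', pow_succ', Module.End.mul_apply, Module.End.mul_apply, ← ih]
    exact LinearMap.congr_fun h.comm _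

theorem ker_le {x : X} {k l : ℕ} (hkl : k ≤ l) (hx : (sg ^ k) x = 0) : (sg ^ l) x = 0 := by
  obtain ⟨m, rfl⟩ := Nat.exists_eq_add_of_le hkl
  rw [add_comm, pow_add, Module.End.mul_apply, hx, map_zero]

variable (A : Type v) [AddCommGroup A] [Module R A]

theorem rTensor_pow (g : X →ₗ[R] X) (k : ℕ) : (g.rTensor A) ^ k = (g ^ k).rTensor A := by
  induction k with
  | zero => rw [pow_zero, pow_zero]; exact (LinearMap.rTensor_id A X).symm
  | succ k ih =>
    rw [pow_succ, pow_succ, ih]
    exact (LinearMap.rTensor_comp A (g ^ k) g).symm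

variable [Module.Flat R A]

/-- The localisation passes to `- ⊗ A`. -/
theorem rTensor (h : LocOp f sg sg') : LocOp (f.rTensor A) (sg.rTensor A) (sg'.rTensor A) where
  comm := by rw [← LinearMap.rTensor_comp, h.comm, LinearMap.rTensor_comp]
  inj := Module.Flat.rTensor_preserves_injective_linearMap sg' h.inj
  surj y := by
    simp only [rTensor_pow]
    induction y using TensorProduct.induction_on with
    | zero => exact ⟨0, 0, by simp⟩
    | tmul y a =>
      obtain ⟨k, x, hx⟩ := h.surj y
      exact ⟨k, x ⊗ₜ[R] a, by rw [LinearMap.rTensor_tmul, LinearMap.rTensor_tmul, hx]⟩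
    | add y z hy hz =>
      obtain ⟨k, x, hx⟩ := hy
      obtain ⟨l, w, hw⟩ := hz
      refine ⟨l + k, ((sg ^ l).rTensor A x) + ((sg ^ k).rTensor A w), ?_⟩
      have e1 : ∀ m, f.rTensor A ∘ₗ (sg ^ m).rTensor A = (sg' ^ m).rTensor A ∘ₗ f.rTensor A := by
        intro m
        rw [← LinearMap.rTensor_comp, ← LinearMap.rTensor_comp]
        congr 1
        exact LinearMap.ext fun x => h.comm_pow m x
      have e2 : ∀ m n : ℕ, ∀ t : X' ⊗[R] A, (sg' ^ (m + n)).rTensor A t =
          (sg' ^ m).rTensor A ((sg' ^ n).rTensor A t) := by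
        intro m n t
        rw [pow_add, ← LinearMap.comp_apply, ← LinearMap.rTensor_comp]
        rfl
      rw [map_add, map_add, ← LinearMap.comp_apply, e1, ← LinearMap.comp_apply (f.rTensor A), e1,
        LinearMap.comp_apply, LinearMap.comp_apply, ← hx, ← hw, e2, add_comm l k, e2]
  ker z hz := by
    simp only [rTensor_pow]
    have hex := Module.Flat.rTensor_exact (M := A) (LinearMap.exact_subtype_ker_map f)
    obtain ⟨w, rfl⟩ := (hex z).mp hz
    clear hz
    induction w using TensorProduct.induction_on with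
    | zero => exact ⟨0, by simp⟩
    | tmul y a =>
      obtain ⟨k, hk⟩ := h.ker y.1 y.2
      exact ⟨k, by rw [LinearMap.rTensor_tmul, LinearMap.rTensor_tmul]; simp [hk]⟩
    | add y w hy hw =>
      obtain ⟨k, hk⟩ := hy
      obtain ⟨l, hl⟩ := hw
      rw [← rTensor_pow] at hk hl
      refine ⟨max k l, ?_⟩
      rw [← rTensor_pow, map_add, map_add, ker_le (le_max_left k l) hk, ker_le (le_max_right k l) hl, add_zero]

end LocOp

section Cochains

open K187.HochMap (map map_comp map_id map_succ d_map d_map_apply)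

variable {R : Type u} [CommRing R] (A : Type v) [Ring A] [Bialgebra R A]
variable {N N' : Type v} [AddCommGroup N] [Module R N] [AddCommGroup N'] [Module R N']
variable {f : N →ₗ[R] N'} {sg : N →ₗ[R] N} {sg' : N' →ₗ[R] N'}

theorem map_pow (g : N →ₗ[R] N) (n k : ℕ) : map R A (g ^ k) n = (map R A g n) ^ k := by
  induction k with
  | zero => rw [pow_zero, pow_zero]; exact map_id R A n
  | succ k ih =>
    rw [pow_succ, pow_succ, ← ih]
    exact map_comp R A (g ^ k) g n

/-- The localisation on cochains. -/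
theorem locOp_map [Module.Flat R A] (h : LocOp f sg sg') (n : ℕ) :
    LocOp (map R A f n) (map R A sg n) (map R A sg' n) := by
  induction n with
  | zero => exact h
  | succ n ih => exact ih.rTensor A

/-- `sg ^ k` is colinear from the `n`-th to the `n + k`-th structure. -/
theorem isComodHom_pow (co : ℕ → HopfRep.Comod R A N)
    (hsg : ∀ n, @Hoch.IsComodHom R _ A _ _ _ N _ _ (co n) N _ _ (co (n + 1)) sg) (n k : ℕ) :
    @Hoch.IsComodHom R _ A _ _ _ N _ _ (co n) N _ _ (co (n + k)) (sg ^ k) := by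
  induction k with
  | zero =>
    unfold Hoch.IsComodHom
    rw [pow_zero]
    ext x
    change (co n).coact x = (LinearMap.id : N →ₗ[R] N).rTensor A ((co n).coact x)
    rw [LinearMap.rTensor_id, LinearMap.id_apply]
  | succ k ih =>
    have h1 := hsg (n + k)
    unfold Hoch.IsComodHom at ih h1 ⊢
    change (co (n + k + 1)).coact ∘ₗ _ = _ at h1
    change (co (n + k)).coact ∘ₗ _ = _ at ih
    change (co (n + k + 1)).coact ∘ₗ _ = _
    rw [pow_succ']
    change _ ∘ₗ (sg ∘ₗ (sg ^ k)) = (sg ∘ₗ (sg ^ k)).rTensor A ∘ₗ _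
    rw [← LinearMap.comp_assoc, h1, LinearMap.comp_assoc, ih, LinearMap.rTensor_comp, LinearMap.comp_assoc]

/-- **A cocycle that dies in the localisation is killed by a power of `sg`.** -/
theorem exists_pow_mem_coboundaries [Module.Flat R A] (h : LocOp f sg sg')
    (co : ℕ → HopfRep.Comod R A N) (co' : ℕ → HopfRep.Comod R A N')
    (hsg : ∀ n, @Hoch.IsComodHom R _ A _ _ _ N _ _ (co n) N _ _ (co (n + 1)) sg)
    (hsg' : ∀ n, @Hoch.IsComodHom R _ A _ _ _ N' _ _ (co' n) N' _ _ (co' (n + 1)) sg')
    (hf : ∀ n, @Hoch.IsComodHom R _ A _ _ _ N _ _ (co n) N' _ _ (co' n) f)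
    (n j : ℕ) (z : (Hoch.cochain R A N (j + 1) : Type v))
    (hz : map R A f (j + 1) z ∈ @Hoch.coboundaries R _ A _ _ N' _ _ (co' n) (j + 1)) :
    ∃ k : ℕ, map R A (sg ^ k) (j + 1) z ∈ @Hoch.coboundaries R _ A _ _ N _ _ (co (n + k)) (j + 1) := by
  obtain ⟨b', hb'⟩ := hz
  obtain ⟨k, b, hb⟩ := (locOp_map A h j).surj b'
  have h1 : map R A f (j + 1) (map R A (sg ^ k) (j + 1) z - @Hoch.d R _ A _ _ N _ _ (co (n + k)) j b) = 0 := by
    have e1 : map R A f (j + 1) (map R A (sg ^ k) (j + 1) z) = map R A (sg' ^ k) (j + 1) (map R A f (j + 1) z) := by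
      rw [map_pow, map_pow]
      exact (locOp_map A h (j + 1)).comm_pow k z
    have e2 := @d_map_apply R _ A _ _ N' N' _ _ _ _ (co' n) (co' (n + k)) (sg' ^ k)
      (isComodHom_pow A co' hsg' n k) j b'
    have e3 := @d_map_apply R _ A _ _ N N' _ _ _ _ (co (n + k)) (co' (n + k)) f (hf (n + k)) j b
    rw [map_sub, e1, ← hb', ← e3, ← hb, ← map_pow, e2, sub_self]
  obtain ⟨l, hl⟩ := (locOp_map A h (j + 1)).ker _ h1
  have e0 : n + (k + l) = n + k + l := (add_assoc n k l).symm
  refine ⟨k + l, ?_⟩
  rw [e0]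
  refine ⟨map R A (sg ^ l) j b, ?_⟩
  have e4 := @d_map_apply R _ A _ _ N N _ _ _ _ (co (n + k)) (co (n + k + l)) (sg ^ l)
      (isComodHom_pow A co hsg (n + k) l) j b
  rw [map_sub, ← map_pow, sub_eq_zero] at hl
  refine e4.trans (hl.symm.trans ?_)
  rw [add_comm k l, pow_add]
  exact (LinearMap.congr_fun (map_comp R A (sg ^ l) (sg ^ k) (j + 1)) z).symm

end Cochains

section T3a

open Groth.Agent.ResProp.EF.K83

variable {R : Type u} [CommRing R] {A : Type u} [CommRing A] [HopfAlgebra R A]
  {D : Type u} [CommRing D] [Algebra R D]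

theorem mulBy_pow {N : Type u} [AddCommGroup N] [Module R N] [Module D N] [IsScalarTower R D N] (s : D) (k : ℕ) :
    (mulBy (R := R) (N := N) s) ^ k = mulBy (s ^ k) := by
  ext x
  induction k generalizing x with
  | zero => simp
  | succ k ih =>
    rw [pow_succ, Module.End.mul_apply, ih]
    simp [pow_succ]

/-- The localisation of a module at the powers of `s`, as an operator localisation. -/
theorem locOp_of_isLocalizedModule {N N' : Type u} [AddCommGroup N] [Module R N] [Module D N] [IsScalarTower R D N]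
    [AddCommGroup N'] [Module R N'] [Module D N'] [IsScalarTower R D N'] (s : D) (f : N →ₗ[D] N')
    [IsLocalizedModule (Submonoid.powers s) f] :
    LocOp (f.restrictScalars R) (mulBy (R := R) (N := N) s) (mulBy (R := R) (N := N') s) where
  comm := by ext x; simp
  inj := (IsLocalizedModule.smul_injective f (⟨s, Submonoid.mem_powers s⟩ : Submonoid.powers s))
  surj y := by
    obtain ⟨⟨x, ⟨_, k, rfl⟩⟩, hx⟩ := IsLocalizedModule.surj (Submonoid.powers s) f y
    refine ⟨k, x, ?_⟩
    rw [mulBy_pow]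
    exact hx
  ker x hx := by
    obtain ⟨⟨_, k, rfl⟩, hk⟩ := (IsLocalizedModule.eq_zero_iff (Submonoid.powers s) f).mp hx
    refine ⟨k, ?_⟩
    rw [mulBy_pow]
    exact hk

theorem isComodHom_mulBy {c : CoAlg R A D} {N : Type u} [AddCommGroup N] [Module R N] [Module D N]
    [IsScalarTower R D N] {co : HopfRep.Comod R A N} (hN : IsHopfMod c N co) {s : D} {χ : A}
    (hχ : IsGroupLikeElem R χ) (hs : c.ρ s = s ⊗ₜ[R] χ) (n : ℕ) :
    @Hoch.IsComodHom R _ A _ _ _ N _ _ (twc co hχ n) N _ _ (twc co hχ (n + 1)) (mulBy s) := by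
  refine LinearMap.ext fun x => ?_
  have h1 : χ * HopfAlgebra.antipode R χ = 1 := hχ.mul_antipode_cancel
  have key : ∀ z : N ⊗[R] A, (LinearMap.mulRight R (HopfAlgebra.antipode R χ ^ (n + 1))).lTensor N
      (TensorProduct.map₂ (Algebra.lsmul R R N).toLinearMap (LinearMap.mul R A) (s ⊗ₜ[R] χ) z) =
      (mulBy s).rTensor A ((LinearMap.mulRight R (HopfAlgebra.antipode R χ ^ n)).lTensor N z) := by
    intro z
    induction z using TensorProduct.induction_on with
    | zero => simp
    | add y z hy hz => simp only [map_add, hy, hz]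
    | tmul y a =>
      simp only [TensorProduct.map₂_apply_tmul, TensorProduct.map_tmul, LinearMap.lTensor_tmul,
        LinearMap.rTensor_tmul, LinearMap.mulRight_apply, LinearMap.mul_apply']
      have h2 : χ * a * HopfAlgebra.antipode R χ ^ (n + 1) = a * HopfAlgebra.antipode R χ ^ n := by
        rw [pow_succ']
        calc χ * a * (HopfAlgebra.antipode R χ * HopfAlgebra.antipode R χ ^ n)
            = (χ * HopfAlgebra.antipode R χ) * (a * HopfAlgebra.antipode R χ ^ n) := by ring
          _ = a * HopfAlgebra.antipode R χ ^ n := by rw [h1, one_mul]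
      rw [h2]
      rfl
  change (twc co hχ (n + 1)).coact (s • x) = (mulBy s).rTensor A ((twc co hχ n).coact x)
  rw [twc, twc, ComodTens.twist_coact, ComodTens.twist_coact, hN.smul, hs]
  exact key _

theorem isComodHom_twist {N N' : Type u} [AddCommGroup N] [Module R N] [AddCommGroup N'] [Module R N']
    (co : HopfRep.Comod R A N) (co' : HopfRep.Comod R A N') (f : N →ₗ[R] N')
    (hf : ∀ n, co'.coact (f n) = f.rTensor A (co.coact n)) {χ : A} (hχ : IsGroupLikeElem R χ) (n : ℕ) :
    @Hoch.IsComodHom R _ A _ _ _ N _ _ (twc co hχ n) N' _ _ (twc co' hχ n) f := by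
  refine LinearMap.ext fun x => ?_
  change (twc co' hχ n).coact (f x) = f.rTensor A ((twc co hχ n).coact x)
  rw [twc, twc, ComodTens.twist_coact, ComodTens.twist_coact, hf]
  exact (ComodTens.lTensor_rTensor_comm _ _ _)

/-- **Node T3a.** -/
theorem T3a : StmtT3a.{u} := by
  intro R _ A _ _ _ D _ _ c s χ hχ hs g N _ _ _ _ co hN L m j z hz
  have hsD : g.cs.ρ (algebraMap D g.Ds s) = (algebraMap D g.Ds s) ⊗ₜ[R] χ := by
    rw [g.compat, hs, Algebra.TensorProduct.map_tmul]
    rfl
  have hL : ∀ n, @Hoch.IsComodHom R _ A _ _ _ L.Ns _ _ (twc L.cos hχ n) L.Ns _ _ (twc L.cos hχ (n + 1))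
      (mulBy s) := by
    intro n
    have h1 := isComodHom_mulBy L.hopf hχ hsD n
    have e : (mulBy (R := R) (N := L.Ns) s) = mulBy (algebraMap D g.Ds s) := by
      ext x
      simp [algebraMap_smul]
    rw [e]
    exact h1
  obtain ⟨k, hk⟩ := exists_pow_mem_coboundaries A (locOp_of_isLocalizedModule (R := R) s L.f)
    (fun n => twc co hχ n) (fun n => twc L.cos hχ n) (fun n => isComodHom_mulBy hN hχ hs n) hL
    (fun n => isComodHom_twist co L.cos (L.f.restrictScalars R) L.colin hχ n) m j z hz
  refine ⟨k, ?_⟩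
  rw [← mulBy_pow]
  exact hk

end T3a

end Groth.Agent.ResProp.EF.K805
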